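import Mathlib
import Cfsg.Agent.B2E.Top

/-! The conjugates of `t` when its centraliser is only known up to a subgroup of odd order. -/

set_option autoImplicit false

namespace Cfsg.Agent.B2F

open Subgroup Cfsg.Agent.Spor Cfsg.Agent.Gr Cfsg.Agent.Gr.Rk Cfsg.Agent.Gr6B Cfsg.Agent.B2E

attribute [local irreducible] t0 s0 y3 zz

variable {G : Type*} [Group G] {t c g u v : G} {φ : CE →* G} {N : Subgroup G}

theorem p4 {M : Type*} [Monoid M] (x : M) : x ^ 4 = x * x * (x * x) := by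
  simp only [pow_succ, pow_zero, one_mul, mul_assoc]

/-- The `2`-elements of the centraliser of `t` are described by `φ`. -/
structure Sv (t : G) (φ : CE →* G) (N : Subgroup G) : Prop where
  ker : ∀ k, φ k = 1 ↔ (k : K) = 1 ∨ (k : K) = t0
  map_s : φ sE = t
  le : φ.range ≤ N
  idx : ∀ a b, Commute t a → Commute t b → a ∉ N → b ∉ N → a * b ∈ N
  two : ∀ c ∈ N, c ^ 4 = 1 → c ∈ φ.range

namespace Sv

variable {a b k n : CE} (h : Sv t φ N)
include h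

theorem eq_iff : φ a = φ b ↔ (a : K) = b ∨ (a : K) = t0 * b := by
  rw [← mul_inv_eq_one, ← map_inv, ← map_mul, h.ker, coe_mul, coe_inv, mul_inv_eq_one,
    mul_inv_eq_iff_eq_mul]

theorem map_t : φ tE = 1 := (h.ker _).2 (Or.inr rfl)

theorem comm (k : CE) : Commute t (φ k) :=
  h.map_s ▸ Commute.map (show Commute sE k from Subtype.ext (mem_CE.1 k.2).2.eq) φ

theorem tt : t * t = 1 := by rw [← h.map_s, ← map_mul, h.ker]; exact Or.inl ss0

theorem t1 : t ≠ 1 := fun e => ((h.ker _).1 (h.map_s.trans e)).elim (DD_ne_one s0_mem.1) s0_ne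

theorem eq_t : φ k = t ↔ (k : K) = s0 ∨ (k : K) = t0 * s0 := by rw [← h.map_s, h.eq_iff]; rfl

theorem tri : t * φ yE = φ zE := by rw [← tri_E, map_mul, map_mul, h.map_t, h.map_s, one_mul]

theorem conj (g : G) :
    Sv (g * t * g⁻¹) ((MulAut.conj g).toMonoidHom.comp φ) (N.map (MulAut.conj g).toMonoidHom) := by
  have cm : ∀ {c}, Commute (g * t * g⁻¹) c → Commute t (g⁻¹ * c * g) := fun {c} k => by
    simpa [TT.cj_def, mul_assoc] using (TT.commute_cj (g := g⁻¹)).2 k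
  have r : ∀ {c}, c ∈ N.map (MulAut.conj g).toMonoidHom ↔ g⁻¹ * c * g ∈ N := Inv.Fz.mem_cj
  refine ⟨fun k => by simp [h.ker], by simp [h.map_s], fun c hc => r.2 (h.le (mem_Mg.1 hc)),
    fun a b ha hb a1 b1 => r.2 ?_, fun c hc c4 => mem_Mg.2 (h.two _ (r.1 hc) ?_)⟩
  · simpa [mul_assoc] using h.idx _ _ (cm ha) (cm hb) (mt r.2 a1) (mt r.2 b1)
  · simpa [c4] using conj_pow (a := g⁻¹) (b := c) (i := 4)

theorem not_sq (k : CE) : φ k * φ k ≠ t := fun e => by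
  rw [← map_mul, h.eq_t] at e
  have := c3_sq k.2 (Or.inr (Or.inr e))
  exact e.elim (fun e => DD_ne_one s0_mem.1 (e.symm.trans this))
    fun e => DD_ne_one (O1_mul_DD t0_mem s0_mem) (e.symm.trans this)

theorem sq_mem (hc : Commute t c) (c4 : c ^ 4 = 1) : c * c ∈ φ.range :=
  h.two _ ((em (c ∈ N)).elim (fun m => mul_mem m m) fun m => h.idx c c hc hc m m)
    (by rw [← pow_two, ← pow_mul, mul_comm, pow_mul, c4, one_pow])

theorem idx2 (hu : Commute t u) (hv : Commute t v) (uu : u * u = 1) (vv : v * v = 1) (c : Commute u v)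
    (u1 : u ∉ φ.range) (v1 : v ∉ φ.range) : u * v ∈ φ.range := by
  have k : ∀ {x : G}, x * x = 1 → x ^ 4 = 1 := fun e => by rw [p4, e, one_mul]
  exact h.two _ (h.idx u v hu hv (fun m => u1 (h.two u m (k uu))) fun m => v1 (h.two v m (k vv)))
    (by rw [c.mul_pow, k uu, k vv, one_mul])

theorem no_ns {L : Subgroup K} (κ : L →* G) {a b : K} {k : L} (hL : ∀ x, Cm a b k x → x ∈ L)
    (e : κ k = t) : ¬ NS a b k := fun m => by
  have cm : ∀ x (hx : Cm a b k x), Commute t (κ ⟨x, hL x hx⟩) := fun x hx =>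
    e ▸ Commute.map (show Commute k ⟨x, hL x hx⟩ from Subtype.ext hx.2.2.eq) κ
  obtain ⟨_, ⟨l, l1, rfl⟩, -, l2⟩ := m ((N.comap κ).map L.subtype) fun x y hx hy x1 y1 =>
    ⟨⟨x, hL x hx⟩ * ⟨y, hL y hy⟩, mem_comap.2 ((map_mul κ _ _).symm ▸ h.idx _ _ (cm x hx) (cm y hy)
      (fun m => x1 ⟨_, m, rfl⟩) fun m => y1 ⟨_, m, rfl⟩), rfl⟩
  have l3 : κ l * κ l = t := by rw [← map_mul, ← e]; exact congrArg κ (Subtype.ext l2)
  obtain ⟨x, hx⟩ := h.two _ l1 (by rw [p4, l3, h.tt])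
  exact h.not_sq x (by rw [hx, l3])

theorem fus (e : φ k = g * t * g⁻¹) : φ k = t ∨ ∃ n : CE, (n : K) ∈ NN ∧ φ n = φ k := by
  have e1 : φ (tE * k) = φ k := by rw [map_mul, h.map_t, one_mul]
  have key : ∀ k : CE, φ k = g * t * g⁻¹ → (k : K) ∈ DD := fun k e => by
    by_contra m
    have k1 : (k : K) * k = 1 := c3_sq k.2 (((h.ker (k * k)).1 (by
      rw [map_mul, e, conj_mul, h.tt]; simp)).imp_right Or.inl)
    exact (h.conj g).no_ns φ (fun x hx => mem_CE.2 ⟨hx.1, hx.2.1⟩) e (ns k.2 k1 (fun l => h.t1 (by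
      rw [show k = 1 from Subtype.ext l, map_one, eq_comm, conj_eq_one_iff] at e; exact e)) m)
  rcases nn_cases (key k e) (key _ (e1.trans e)) (mem_CE.1 k.2).2 with m | m | m | m
  exacts [Or.inl (h.eq_t.2 (Or.inl m)), Or.inl (h.eq_t.2 (Or.inr m)), Or.inr ⟨k, m, rfl⟩,
    Or.inr ⟨_, m, e1⟩]

theorem inj_NN (ha : (a : K) ∈ NN) (hb : (b : K) ∈ NN) (e : φ a = φ b) : a = b :=
  Subtype.ext ((h.eq_iff.1 e).resolve_right fun k => not_NN hb (k ▸ ha))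

theorem comm_NN (ha : (a : K) ∈ NN) (e : Commute (φ k) (φ a)) : Commute k a :=
  mul_inv_eq_iff_eq_mul.1 (h.inj_NN (conj_mem_NN (mem_CE.1 k.2).1.symm (mem_CE.1 k.2).2.symm ha) ha
    (by rw [map_mul, map_mul, map_inv, e.eq, mul_inv_cancel_right]))

theorem exists_cj (ha : (a : K) ∈ NN) : ∃ k, φ k * φ a * (φ k)⁻¹ = φ yE := by
  obtain ⟨g, g1, g2, g3⟩ := NN_trans ha
  exact ⟨⟨g, GenH.mem_cent2.2 ⟨g1, g2⟩⟩, by
    rw [← map_inv, ← map_mul, ← map_mul]; exact congrArg φ (Subtype.ext g3)⟩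

theorem yy (hn : (n : K) ∈ NN) : φ n * φ n = 1 := by
  rw [← map_mul, h.ker]
  exact Or.inl (DD_mul_self hn.1.1)

end Sv

variable {κ : CC →* G} {k q r : CC} {b x y : LL} {e f : ZMod 2} {m n : CE}

/-- The involution `t` is the image of an element of order four. -/
structure Hv (t : G) (φ : CE →* G) (N : Subgroup G) (κ : CC →* G) (k : CC) (b : LL) : Prop where
  st : Sv t φ N
  ker : ∀ c, κ c = 1 ↔ (c : K) = 1 ∨ (c : K) = t0
  map : κ k = t
  sq : (k : K) * k = t0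
  pol : ∀ c, pol c (csm (PP.sg k) c) = pol c b
  z : φ zE = κ zc
  cj : ∃ u, u * t * u⁻¹ = φ yE

namespace Hv

variable (h : Hv t φ N κ k b)
include h

theorem act (q : CC) : t * κ q * t⁻¹ = κ (k * q * k⁻¹) := by rw [map_mul, map_mul, map_inv, h.map]

theorem w_cj (q : CC) : κ (wq k q) * t = κ q * t * (κ q)⁻¹ := w_eq (h.act q)

theorem w_two (hq : q ∈ L0 b) : wq k q * wq k q = 1 := by
  obtain ⟨e, x, l⟩ := mem_QK.1 hq.1
  exact w_sq (m := k) l rfl ((h.pol x).trans (tq_comm_iff.1 (l ▸ mem_cent.1 hq.2)))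

theorem w_com (hq : q ∈ L0 b) : Commute t (κ (wq k q)) := w_comm h.st.tt (h.act q) (h.w_two hq)

theorem w_cc (hq : q ∈ L0 b) (hr : r ∈ L0 b) : Commute (wq k q) (wq k r) :=
  Sub.comm_of_sq (h.w_two hq) (h.w_two hr) (by
    have := h.w_two (mul_mem hr hq)
    rcases wq_mul (k := k) hr.1 hq.1 with w | w <;> rw [w] at this
    · exact this
    · rwa [mul_assoc, ← mul_assoc _ zc, ← zc_comm, mul_assoc, ← mul_assoc, zc_two, one_mul] at this)

theorem mem_mul (hq : q ∈ L0 b) (hr : r ∈ L0 b) :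
    κ (wq k (q * r)) ∈ φ.range ↔ κ (wq k r) * κ (wq k q) ∈ φ.range := by
  rcases wq_mul (k := k) hq.1 hr.1 with l | l <;> rw [l, map_mul]
  rw [map_mul, mul_mem_cancel_left (MonoidHom.mem_range.2 ⟨_, h.z⟩)]

/-- The members of `L0` whose commutator with `k` maps into the double cover. -/
def L1 : Subgroup CC where
  carrier := {q | q ∈ L0 b ∧ κ (wq k q) ∈ φ.range}
  one_mem' := ⟨one_mem _, by simp [wq]⟩
  mul_mem' := fun hq hr => ⟨mul_mem hq.1 hr.1, (h.mem_mul hq.1 hr.1).2 (mul_mem hr.2 hq.2)⟩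
  inv_mem' := fun {q} hq => ⟨inv_mem hq.1, by
    have := (h.mem_mul hq.1 (inv_mem hq.1)).1 (by simp [wq])
    rwa [mul_mem_cancel_right hq.2] at this⟩

theorem card_L1 : 2 ^ 22 ≤ Nat.card (h.L1.map CC.subtype) := by
  have c1 := PP.card_le_two_mul (N := L0 b) (H := h.L1) fun q hq r hr q1 r1 =>
    ⟨mul_mem hq hr, (h.mem_mul hq hr).2 (h.st.idx2 (h.w_com hr) (h.w_com hq)
      (by rw [← map_mul, h.w_two hr, map_one]) (by rw [← map_mul, h.w_two hq, map_one])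
      ((h.w_cc hr hq).map κ) (fun l => r1 ⟨hr, l⟩) fun l => q1 ⟨hq, l⟩)⟩
  have c2 := card_le_of_le (inf_le_left : h.L1 ⊓ L0 b ≤ h.L1)
  have c3 := card_L0 (b := b)
  rw [card_map_of_injective CC.subtype_injective]
  omega

theorem w_ne1 (hq : (q : K) = tq e x) (hx : x ∉ Fv (PP.sg k)) :
    κ (wq k q) ≠ 1 ∧ κ (wq k q) ≠ κ zc := by
  have l := w_ne (m := k) (q' := k * q * k⁻¹) hq rfl hx
  refine ⟨fun p => ?_, fun p => ?_⟩
  · rw [h.ker, ← tq_zero, t0_v1] at p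
    exact p.elim (l 0).1 (l 0).2
  · rw [← mul_inv_eq_one, ← map_inv, ← map_mul, h.ker, coe_mul, coe_inv, mul_inv_eq_one,
      mul_inv_eq_iff_eq_mul] at p
    refine p.elim (fun p => (l (0 + 1)).1 ?_) fun p => (l (0 + 1)).2 ?_
    · rw [← zz_mul_tq, tq_zero, mul_one]; exact p
    · rw [← tq_mul_zz, ← t0_v1]; exact p

theorem exists_n (hq : q ∈ h.L1) (q1 : (q : K) = tq e x) (hx : x ∉ Fv (PP.sg k)) :
    ∃ n : CE, ((n : K) ∈ NN ∧ (n : K) ∈ QK ∧ (n : K) ≠ y3) ∧ φ n = κ (wq k q) * t := by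
  obtain ⟨l, hl⟩ := mul_mem hq.2 ⟨sE, h.st.map_s⟩
  have ne := h.w_ne1 q1 hx
  obtain ⟨n, n1, n2⟩ := (h.st.fus (hl.trans (h.w_cj q))).resolve_left fun p =>
    ne.1 (mul_eq_right.1 (hl.symm.trans p))
  obtain ⟨u, hu⟩ := h.cj
  have z2 : φ zE * t = φ yE := by rw [← h.st.tri, (h.st.comm yE).eq, mul_assoc, h.st.tt, mul_one]
  have p : φ (zE * n) = κ q * u * t * (κ q * u)⁻¹ := by
    rw [← gcc, hu, map_mul, n2, hl, h.w_cj, ← z2, h.z, ← mul_assoc, ← mul_assoc, ← mul_assoc, ← map_mul,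
      ← map_mul, zc_comm]
  refine ⟨n, ⟨n1, Sub.mem_QK_of_zz_mul n1.1.1 ?_, fun p => ne.2 ?_⟩, n2.trans hl⟩
  · rcases h.st.fus p with p | ⟨m, m1, p⟩
    · exact (h.st.eq_t.1 p).elim (fun p => (show zz * n = s0 from p) ▸ s0_mem.1)
        fun p => (show zz * n = t0 * s0 from p) ▸ O1_mul_DD t0_mem s0_mem
    · exact (h.st.eq_iff.1 p.symm).elim (fun p => (show zz * n = m from p) ▸ m1.1.1)
        fun p => (show zz * n = t0 * m from p) ▸ O1_mul_DD t0_mem m1.1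
  · rw [show n = yE from Subtype.ext p, hl, ← z2, mul_left_inj, h.z] at n2
    exact n2.symm

theorem pb_of (hq : q ∈ h.L1) (hr : r ∈ h.L1) (q1 : (q : K) = tq e x) (r1 : (r : K) = tq f y)
    (xy : x + y ∉ Fv (PP.sg k)) (hn : (n : K) ∈ NN) (m1 : φ m = κ (wq k q) * t)
    (n1 : φ n = κ (wq k r) * t) : Pb m n := by
  have qr : ((r * q : CC) : K) = tq _ (y + x) := (congrArg₂ (· * ·) r1 q1).trans (tq_mul _ _ _ _)
  obtain ⟨l, ⟨l1, l2, -⟩, l3⟩ := h.exists_n (mul_mem hr hq) qr (add_comm x y ▸ xy)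
  have ne := h.w_ne1 qr (add_comm x y ▸ xy)
  have cq := h.w_com hq.1
  have cr := h.w_com hr.1
  have w := wq_mul (k := k) hr.1.1 hq.1.1
  have c := h.w_cc hq.1 hr.1
  have mn : φ m * φ n = κ (wq k q * wq k r) := by
    rw [m1, n1, map_mul, mul_assoc, cr.left_comm, h.st.tt, mul_one]
  have k0 : κ (wq k q * wq k r) ≠ 1 ∧ κ (wq k q * wq k r) ≠ κ zc := by
    rcases w with w | w <;> rw [w] at ne
    · exact ne
    · exact ⟨fun p => ne.2 (by rw [map_mul, p, mul_one]), fun p => ne.1 (by rw [map_mul, p, ← map_mul, zc_two, map_one])⟩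
  refine ⟨TT.commute_coe.2 (h.st.comm_NN hn ?_), ?_, fun p => k0.1 ?_, fun p => k0.2 ?_⟩
  · rw [m1, n1]
    exact ((c.map κ).mul_right cq.symm).mul_left (cr.mul_right (Commute.refl t))
  · have p : φ (sE * m * n) = φ l ∨ φ (sE * m * n) = φ (zE * l) := by
      rw [map_mul, map_mul, map_mul, h.st.map_s, mul_assoc, mn, l3, h.z, map_mul, (cq.mul_right cr).eq,
        ← mul_assoc, ← map_mul, ← map_mul]
      refine w.imp (fun w => by rw [w]) fun w => ?_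
      rw [w, ← mul_assoc zc, zc_two, one_mul]
    exact mem_DD_of l1 l2 (p.imp h.st.eq_iff.1 h.st.eq_iff.1)
  · rw [← mn, show m = n from Subtype.ext p, h.st.yy hn]
  · have q : φ m = φ zE * φ n := (congrArg φ (Subtype.ext p)).trans (φ.map_mul zE n)
    exact mn.symm.trans ((congrArg (· * φ n) q).trans (by rw [mul_assoc, h.st.yy hn, mul_one, h.z]))

theorem elim : False := by
  have hh : PP.sg k * PP.sg k = 1 := by rw [← map_mul, PP.sg_eq_one, coe_mul, h.sq]; exact t0_mem_QK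
  have h1 : PP.sg k ≠ 1 := fun p => (CL.es2.sq _ (PP.sg_eq_one.1 p)).elim
    (fun p => DD_ne_one t0_mem (h.sq.symm.trans p)) fun p => zz_not_mem_DD (h.sq.symm.trans p ▸ t0_mem)
  obtain ⟨a, ⟨ea, p, hp, p1⟩, b, ⟨eb, q, hq, q1⟩, c, ⟨ec, r, hr, r1⟩, ⟨a1, b1, c1⟩, ⟨ab, ac, bc⟩, abc⟩ :=
    lb2 hh h1 (PP.sg_v1 k) (by rintro _ ⟨q, hq, rfl⟩; exact hq.1.1) h.card_L1
  have s1 : ((p * q : CC) : K) = tq _ (a + b) := (congrArg₂ (· * ·) p1 q1).trans (tq_mul _ _ _ _)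
  obtain ⟨na, ma, fa⟩ := h.exists_n hp p1 a1
  obtain ⟨nb, mb, fb⟩ := h.exists_n hq q1 b1
  obtain ⟨nc, mc, fc⟩ := h.exists_n hr r1 c1
  obtain ⟨nd, md, fd⟩ := h.exists_n (mul_mem hp hq) s1 ab
  exact pb ma mb mc md (h.pb_of hp hq p1 q1 ab mb.1 fa fb) (h.pb_of hp hr p1 r1 ac mc.1 fa fc)
    (h.pb_of hp (mul_mem hp hq) p1 s1 (by rwa [← add_assoc, Gr.ll_add_self, zero_add]) md.1 fa fd)
    (h.pb_of hq hr q1 r1 bc mc.1 fb fc)
    (h.pb_of hq (mul_mem hp hq) q1 s1 (by rwa [add_comm a, ← add_assoc, Gr.ll_add_self, zero_add]) md.1 fb fd)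
    (h.pb_of hr (mul_mem hp hq) r1 s1 (by rwa [add_comm]) md.1 fc fd)

end Hv

theorem Sv.no_four (h : Sv t φ N) (ker : ∀ c, κ c = 1 ↔ (c : K) = 1 ∨ (c : K) = t0) (hk : κ k = t)
    (sq : (k : K) * k = t0) (c : 2 ^ 16 ≤ Nat.card ↥(QK ⊓ centralizer {(k : K)})) : False := by
  obtain ⟨q, q1, q2⟩ := exists_sq_zz (T := QK ⊓ centralizer {(k : K)}) inf_le_left (by omega)
  have q3 : Commute q k := mem_cent.1 q1.2
  let Q : CC := ⟨q, mem_CC_of_QK q1.1 (sq ▸ (q3.mul_right q3).symm.eq)⟩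
  have z := h.sq_mem (c := κ Q) (hk ▸ Commute.map (show Commute k Q from Subtype.ext q3.symm.eq) κ) (by
    rw [p4, ← map_mul, show Q * Q = zc from Subtype.ext q2, ← map_mul, zc_two, map_one])
  rw [← map_mul, show Q * Q = zc from Subtype.ext q2] at z
  obtain ⟨b, b1, b2⟩ := exists_b (h := PP.sg k) (by rw [← map_mul, PP.sg_eq_one, coe_mul, sq]; exact t0_mem_QK)
  obtain ⟨p, p1, p2⟩ := ActH.exists_pol_sep (a := cls v1) (b := b) (cls_ne_zero nm_v1)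
    (fun e => b1 (e ▸ cls_mem_ShS nm_v1)) 1
  obtain ⟨f, hf⟩ := PP.sg_spec k 0 p
  have w1 : tq 0 p * (k * tq 0 p * (k : K)⁻¹)⁻¹ ∈ QK :=
    mul_mem (tq_QK 0 p) (inv_mem (conj_mem_QK (mem_CC.1 k.2).2 (tq_QK 0 p)))
  have w2 : tq 0 p * t0 * (tq 0 p)⁻¹ = zz * t0 := by rw [t0_v1, tq_conj, p1, zz_mul_tq]
  obtain ⟨g, w3⟩ : ∃ g, tq 0 p * (k * tq 0 p * (k : K)⁻¹)⁻¹ = tq g (p + csm (PP.sg k) p) :=
    ⟨_, by rw [hf, ActH.tq_inv, tq_mul]⟩
  have w4 : tq 0 p * (k * tq 0 p * (k : K)⁻¹)⁻¹ * k = tq 0 p * k * (tq 0 p)⁻¹ := by group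
  rw [w3] at w4
  have w5 : tq g (p + csm (PP.sg k) p) * tq g (p + csm (PP.sg k) p) = 1 := by
    rw [tq_mul_self, qL_add, qL_csm, z2_add_self, zero_add, b2, p2, tq_zero]
  have w6 : t0 * tq g (p + csm (PP.sg k) p) = tq g (p + csm (PP.sg k) p) * t0 := by
    rw [t0_v1, tq_comm_iff, pol_comm, pol_add_left, p1]
    nth_rw 1 [← PP.sg_v1 k]
    rw [← csm_cls, pol_csm, p1, z2_add_self]
  generalize tq g (p + csm (PP.sg k) p) = w at w3 w4 w5 w6
  let W : CC := ⟨w, mem_CC_of_QK (w3 ▸ w1) w6⟩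
  have w7 : W * k * W⁻¹ = k * zc := Subtype.ext (by
    have := congrArg (fun a => a * a) w4
    simp only [conj_mul, sq, w2] at this
    rw [← sq, ← mul_assoc, ← mul_assoc, mul_left_inj, (mem_CC.1 k.2).2] at this
    exact (congrArg (w * k * ·) (inv_eq_of_mul_eq_one_right w5)).trans this)
  have w8 : κ W * t * (κ W)⁻¹ = t * κ zc := by rw [← hk, ← map_inv, ← map_mul, ← map_mul, w7, map_mul]
  obtain ⟨l, hl⟩ := mul_mem (MonoidHom.mem_range.2 ⟨sE, h.map_s⟩) z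
  obtain ⟨n, n1, n2⟩ := (h.fus (hl.trans w8.symm)).resolve_left fun p =>
    ((ker zc).1 (mul_eq_left.1 (hl.symm.trans p))).elim zz_ne_one fun p =>
      zz_not_mem_DD ((show zz = t0 from p) ▸ t0_mem)
  obtain ⟨m, hm⟩ := h.exists_cj n1
  have h' := h.conj (φ m)⁻¹
  rw [(h.comm m).inv_right.symm.mul_inv_cancel] at h'
  have y : ((MulAut.conj (φ m)⁻¹).toMonoidHom.comp φ) yE = t * κ zc := by simp [← hm, n2, hl, mul_assoc]
  exact Hv.elim ⟨h', ker, hk, sq, b2, by rw [← h'.tri, y, ← mul_assoc, h.tt, one_mul], _, w8.trans y.symm⟩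

theorem Sv.fusH {Θ : HH →* G} (h : Sv t φ N) (ker : ∀ c, Θ c = 1 ↔ (c : K) = 1 ∨ (c : K) = t0) {g : G} {k : HH}
    (e : Θ k = g * t * g⁻¹) : (k : K) ∈ O1 t0 := by
  have e1 : ∀ {k}, Θ k = g * t * g⁻¹ → (k : K) ≠ 1 := fun e l => h.t1 (by
    rwa [(ker _).2 (Or.inl l), eq_comm, conj_eq_one_iff] at e)
  have key : ∀ k : HH, Θ k = g * t * g⁻¹ → (k : K) ∈ DD := fun k e => by
    rcases (ker (k * k)).1 (by rw [map_mul, e, conj_mul, h.tt]; simp) with q | q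
    · refine (Gr6.K_two _ q (e1 e)).resolve_left fun c => ?_
      obtain ⟨c, hc⟩ := isConj_iff.1 c.symm
      refine (h.conj g).no_ns Θ (a := t0) (b := t0) (fun x hx => mem_centralizer_singleton.2 hx.1)
        e (NS.of_conj c (hc.symm ▸ ns_one (conj_mem_DD c t0_mem) ?_))
      rw [← hc, ← conj_mul', ← conj_mul', mem_centralizer_singleton.1 k.2]
    · obtain ⟨c, c1, c2, c3⟩ := conj_four q
      let C : HH := ⟨c, mem_centralizer_singleton.2 c1⟩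
      refine ((h.conj (Θ C * g)).no_four (κ := Θ.comp incl) (k := ⟨_, c2⟩) (fun c => ker _) ?_ ?_ c3).elim
      · rw [← gcc, ← e, ← map_inv, ← map_mul, ← map_mul]
        rfl
      · exact (conj_mul' _ _ _).symm.trans ((congrArg (c * · * c⁻¹) q).trans (conj_eq_of_comm c1.symm))
  exact (mem_O1_iff t0_mem).2 ⟨key k e, key (⟨t0, mem_centralizer_singleton.2 rfl⟩ * k) (by
    rw [map_mul, (ker _).2 (Or.inr rfl), one_mul, e])⟩

end Cfsg.Agent.B2F
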